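import Groth.Prelude.Def_SGA7a
import Mathlib.FieldTheory.IsSepClosed
import Mathlib.FieldTheory.Galois.Infinite
import Mathlib.RingTheory.DiscreteValuationRing.Basic
import Mathlib.RingTheory.Valuation.Integral
import Mathlib.RingTheory.IntegralClosure.IntegrallyClosed
import Mathlib.RingTheory.Norm.Transitivity
import Mathlib.GroupTheory.Archimedean
import Mathlib.Algebra.Field.GeomSum
import Mathlib.Algebra.BigOperators.Field
import Mathlib.RingTheory.Polynomial.Eisenstein.Basic
import Mathlib.RingTheory.Polynomial.RationalRoot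
import Mathlib.RingTheory.DedekindDomain.IntegralClosure
import Mathlib.RingTheory.RamificationInertia.Ramification
import Mathlib.FieldTheory.Normal.Basic
import Mathlib.RingTheory.Trace.Basic

/-!
# Tame extensions of a field all of whose automorphisms are inertial
-/

set_option autoImplicit false
set_option linter.style.haveILetI false

universe u

open Polynomial IntermediateField

namespace Groth.Agent.SGA7Tame

open scoped Classical

variable {R K Ω : Type u} [CommRing R] [IsDomain R] [IsDiscreteValuationRing R] [Field K] [Algebra R K]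
  [IsFractionRing R K] [Field Ω] [Algebra K Ω] {W : ValuationSubring Ω}

local notation "v" => ValuationSubring.valuation W

section

variable (hI : ∀ σ : Ω ≃ₐ[K] Ω, SGA7.IsInertia W σ)

include hI in
theorem sub_lt_one {x : Ω} (hx : v x ≤ 1) (σ : Ω ≃ₐ[K] Ω) : v (σ x - x) < 1 :=
  (hI σ x ((W.valuation_le_one_iff x).1 hx)).2

include hI in
theorem apply_le_one {x : Ω} (hx : v x ≤ 1) (σ : Ω ≃ₐ[K] Ω) : v (σ x) ≤ 1 :=
  (W.valuation_le_one_iff _).2 (hI σ x ((W.valuation_le_one_iff x).1 hx)).1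

include hI in
theorem apply_lt_apply {a b : Ω} (h : v a < v b) (σ : Ω ≃ₐ[K] Ω) : v (σ a) < v (σ b) := by
  have hb : b ≠ 0 := fun hb => by rw [hb, map_zero] at h; exact not_lt_zero h
  have hσb : 0 < v (σ b) := zero_lt_iff.2 ((Valuation.ne_zero_iff _).2 (by simpa using hb))
  rcases eq_or_ne a 0 with rfl | ha
  · simpa using hσb
  by_contra hle
  have h1 : v (σ b / σ a) ≤ 1 := by
    rw [map_div₀, div_le_one₀ (zero_lt_iff.2 ((Valuation.ne_zero_iff _).2 (by simpa using ha)))]
    exact not_lt.1 hle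
  have h2 := apply_le_one hI h1 σ.symm
  rw [map_div₀, AlgEquiv.symm_apply_apply, AlgEquiv.symm_apply_apply, map_div₀,
    div_le_one₀ (zero_lt_iff.2 ((Valuation.ne_zero_iff _).2 ha))] at h2
  exact absurd h2 (not_le.2 h)

include hI in
/-- Automorphisms in the inertia group preserve the valuation. -/
theorem val_apply [Algebra.IsIntegral K Ω] (σ : Ω ≃ₐ[K] Ω) (x : Ω) : v (σ x) = v x := by
  have hle : ∀ τ : Ω ≃ₐ[K] Ω, v x ≤ v (τ x) := fun τ => by
    by_contra h
    rw [not_le] at h
    have hanti : StrictAnti fun k : ℕ => v ((τ ^ k) x) := strictAnti_nat_of_succ_lt fun k => by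
      show v ((τ ^ (k + 1)) x) < v ((τ ^ k) x)
      rw [pow_succ, AlgEquiv.mul_apply]
      exact apply_lt_apply hI h _
    have hfin : {y : Ω | aeval y (minpoly K x) = 0}.Finite := by
      refine ((minpoly K x).map (algebraMap K Ω)).roots.toFinset.finite_toSet.subset fun y hy => ?_
      simp only [Set.mem_setOf_eq] at hy
      simp [mem_roots', (minpoly.monic (Algebra.IsIntegral.isIntegral x)).map (algebraMap K Ω) |>.ne_zero,
        hy, ← aeval_def]
    have hinf : Set.Infinite {y : Ω | aeval y (minpoly K x) = 0} := by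
      refine Set.infinite_of_injective_forall_mem (f := fun k : ℕ => (τ ^ k) x) (fun i j hij => ?_) fun k => ?_
      · exact hanti.injective (congrArg (fun y => v y) hij)
      · show aeval ((τ ^ k) x) (minpoly K x) = 0
        exact (aeval_algHom_apply (τ ^ k).toAlgHom x _).trans (by rw [minpoly.aeval, map_zero])
    exact hinf hfin
  refine le_antisymm ?_ (hle σ)
  by_contra h
  rw [not_le] at h
  have h2 := apply_lt_apply hI h σ.symm
  rw [AlgEquiv.symm_apply_apply] at h2
  exact absurd (hle σ.symm) (not_le.2 h2)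

end

variable [Algebra R Ω] [IsScalarTower R K Ω]

theorem algebraMap_le_one (hW : SGA7.LiesOver K R W) (a : R) : v (algebraMap R Ω a) ≤ 1 := by
  rw [IsScalarTower.algebraMap_apply R K Ω]
  exact (W.valuation_le_one_iff _).2 (hW.1 a)

theorem algebraMap_lt_one (hW : SGA7.LiesOver K R W) {a : R} (ha : a ∈ IsLocalRing.maximalIdeal R) :
    v (algebraMap R Ω a) < 1 := by
  rw [IsScalarTower.algebraMap_apply R K Ω]
  exact hW.2 a ha

theorem algebraMap_eq_one (hW : SGA7.LiesOver K R W) {a : R} (ha : IsUnit a) : v (algebraMap R Ω a) = 1 := by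
  obtain ⟨a, rfl⟩ := ha
  refine le_antisymm (algebraMap_le_one hW _) ?_
  have h : v (algebraMap R Ω a) * v (algebraMap R Ω ↑a⁻¹) = 1 := by
    rw [← map_mul, ← map_mul, Units.mul_inv, map_one, map_one]
  calc (1 : _) = _ := h.symm
    _ ≤ v (algebraMap R Ω a) := mul_le_of_le_one_right' (algebraMap_le_one hW _)

theorem natCast_eq_one (hW : SGA7.LiesOver K R W) {r d : ℕ} (hrk : (r : IsLocalRing.ResidueField R) ≠ 0)
    (hd : d ∣ r) : v (d : Ω) = 1 := by
  rw [← map_natCast (algebraMap R Ω)]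
  refine algebraMap_eq_one hW ?_
  rw [← IsLocalRing.residue_ne_zero_iff_isUnit, map_natCast]
  obtain ⟨e, rfl⟩ := hd
  intro h
  exact hrk (by push_cast; rw [h, zero_mul])

variable (hW : SGA7.LiesOver K R W) (hI : ∀ σ : Ω ≃ₐ[K] Ω, SGA7.IsInertia W σ)
  {r : ℕ} (hr : 0 < r) (hrk : (r : IsLocalRing.ResidueField R) ≠ 0)

include hW hI hr hrk in
/-- An `r`-th root of a fixed unit is fixed. -/
theorem root_fixed {a x : Ω} (ha : v a = 1) (hx : x ^ r = a) (σ : Ω ≃ₐ[K] Ω) (hσ : σ a = a) : σ x = x := by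
  have hvx : v x = 1 := by
    exact (pow_eq_one_iff_of_nonneg zero_le hr.ne').1 (by rw [← map_pow, hx, ha])
  have hx0 : x ≠ 0 := fun h => by rw [h, map_zero] at hvx; exact zero_ne_one hvx
  let ζ := σ x / x
  have hζ1 : v (ζ - 1) < 1 := by
    rw [show ζ - 1 = (σ x - x) / x by simp [ζ, sub_div, hx0], map_div₀, hvx, div_one]
    exact sub_lt_one hI hvx.le σ
  have hvζ : v ζ ≤ 1 := by
    rw [map_div₀, hvx, div_one]
    exact apply_le_one hI hvx.le σ
  have hζr : ζ ^ r = 1 := by
    rw [div_pow, ← map_pow, hx, hσ, div_self]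
    exact fun h => by rw [h, map_zero] at ha; exact zero_ne_one ha
  by_contra hne
  have hζ : ζ ≠ 1 := fun h => hne ((div_eq_one_iff_eq hx0).1 h)
  have hsum : ∑ i ∈ Finset.range r, ζ ^ i = 0 := by
    rw [geom_sum_eq hζ, hζr, sub_self, zero_div]
  have hlt : v (∑ i ∈ Finset.range r, (ζ ^ i - 1)) < 1 := by
    refine Valuation.map_sum_lt _ one_ne_zero fun i _ => ?_
    rw [← geom_sum_mul, map_mul]
    exact mul_lt_one_of_nonneg_of_lt_one_right
      (Valuation.map_sum_le _ fun j _ => by rw [map_pow]; exact pow_le_one₀ zero_le hvζ) zero_le hζ1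
  rw [Finset.sum_sub_distrib, hsum, zero_sub, Valuation.map_neg, Finset.sum_const, Finset.card_range, nsmul_one,
    natCast_eq_one hW hrk dvd_rfl] at hlt
  exact lt_irrefl _ hlt

variable [IsSepClosure K Ω]

include hW hI hr hrk in
/-- Units have `r`-th roots. -/
theorem exists_root (L : IntermediateField K Ω) {a : Ω} (haL : a ∈ L) (ha : v a = 1) : ∃ x ∈ L, x ^ r = a := by
  haveI : IsSepClosed Ω := IsSepClosure.sep_closed K
  haveI : IsGalois K Ω := inferInstance
  haveI : NeZero (r : Ω) := ⟨fun h => by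
    have := natCast_eq_one (Ω := Ω) (W := W) hW hrk dvd_rfl
    rw [h, map_zero] at this
    exact zero_ne_one this⟩
  obtain ⟨x, hx⟩ := IsSepClosed.exists_pow_nat_eq a r
  refine ⟨x, ?_, hx⟩
  rw [← InfiniteGalois.fixedField_fixingSubgroup L]
  exact fun σ => root_fixed hW hI hr hrk ha hx σ.1 (σ.2 ⟨a, haL⟩)

include hW hI hr hrk in
/-- Automorphisms fixing representatives of all the values fix everything. -/
theorem fixes_of_values (L : IntermediateField K Ω) [IsGalois K L] [FiniteDimensional K L]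
    (hL : Module.finrank K L = r) (σ : Ω ≃ₐ[K] Ω) (hc : ∀ y ∈ L, y ≠ 0 → ∃ c, σ c = c ∧ v c = v y)
    {z : Ω} (hz : z ∈ L) : σ z = z := by
  haveI : IsGalois K Ω := inferInstance
  let τ := AlgEquiv.restrictNormalHom L σ
  let d := orderOf τ
  have hd : d ∣ r := by
    rw [← hL, ← IsGalois.card_aut_eq_finrank]
    exact orderOf_dvd_natCard τ
  have hσd : (σ ^ d) z = z := by
    have h1 : AlgEquiv.restrictNormalHom L (σ ^ d) = 1 := by rw [map_pow, pow_orderOf_eq_one]
    have h2 := AlgEquiv.restrictNormal_commutes (σ ^ d) L ⟨z, hz⟩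
    rw [show AlgEquiv.restrictNormal (σ ^ d) L = 1 from h1] at h2
    exact h2.symm
  by_contra hne
  have hyL : σ z - z ∈ L := by
    refine sub_mem ?_ hz
    have h2 := AlgEquiv.restrictNormal_commutes σ L ⟨z, hz⟩
    exact h2 ▸ ((AlgEquiv.restrictNormal σ L) ⟨z, hz⟩).2
  obtain ⟨c, hσc, hvc⟩ := hc _ hyL (sub_ne_zero.2 hne)
  have hy0 : v (σ z - z) ≠ 0 := (Valuation.ne_zero_iff _).2 (sub_ne_zero.2 hne)
  let w := (σ z - z) / c
  have hw : v w = 1 := by rw [map_div₀, hvc, div_self hy0]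
  have hσi : ∀ i : ℕ, (σ ^ i) c = c := fun i => by
    induction i with
    | zero => simp
    | succ i ih => rw [pow_succ, AlgEquiv.mul_apply, hσc, ih]
  have hsum : ∑ i ∈ Finset.range d, (σ ^ i) w = 0 := by
    have h : ∀ i : ℕ, (σ ^ i) w = ((σ ^ (i + 1)) z - (σ ^ i) z) / c := fun i => by
      rw [map_div₀, hσi, map_sub, pow_succ, AlgEquiv.mul_apply]
    rw [Finset.sum_congr rfl fun i _ => h i, ← Finset.sum_div, Finset.sum_range_sub (fun i => (σ ^ i) z), hσd,
      pow_zero, AlgEquiv.one_apply, sub_self, zero_div]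
  have hlt : v (∑ i ∈ Finset.range d, ((σ ^ i) w - w)) < 1 :=
    Valuation.map_sum_lt _ one_ne_zero fun i _ => sub_lt_one hI hw.le _
  rw [Finset.sum_sub_distrib, hsum, zero_sub, Valuation.map_neg, Finset.sum_const, Finset.card_range, nsmul_eq_mul,
    map_mul, natCast_eq_one hW hrk hd, hw, one_mul] at hlt
  exact lt_irrefl _ hlt

include hW in
theorem exists_zpow {π : R} (hπ : Irreducible π) {c : K} (hc : c ≠ 0) :
    ∃ n : ℤ, v (algebraMap K Ω c) = v (algebraMap R Ω π) ^ n := by
  obtain ⟨a, b, hb, rfl⟩ := IsFractionRing.div_surjective (A := R) c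
  have hb0 : b ≠ 0 := nonZeroDivisors.ne_zero hb
  have ha0 : a ≠ 0 := fun h => hc (by rw [h, map_zero, zero_div])
  obtain ⟨i, a', rfl⟩ := IsDiscreteValuationRing.eq_unit_mul_pow_irreducible ha0 hπ
  obtain ⟨j, b', rfl⟩ := IsDiscreteValuationRing.eq_unit_mul_pow_irreducible hb0 hπ
  refine ⟨(i : ℤ) - j, ?_⟩
  have hπ0 : v (algebraMap R Ω π) ≠ 0 := by
    rw [Valuation.ne_zero_iff, IsScalarTower.algebraMap_apply R K Ω]
    simpa using hπ.ne_zero
  rw [map_div₀, ← IsScalarTower.algebraMap_apply R K Ω, ← IsScalarTower.algebraMap_apply R K Ω, map_div₀,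
    map_mul, map_mul, map_mul, map_mul, algebraMap_eq_one hW a'.isUnit, algebraMap_eq_one hW b'.isUnit,
    one_mul, one_mul, map_pow, map_pow, map_pow, map_pow, zpow_sub₀ hπ0, zpow_natCast, zpow_natCast]

include hW hI hr hrk in
/-- The Galois extensions of degree `r` are totally ramified, generated by a root of a uniformizer. -/
theorem exists_beta (L : IntermediateField K Ω) [IsGalois K L] [FiniteDimensional K L]
    (hL : Module.finrank K L = r) {π : R} (hπ : Irreducible π) :
    ∃ β ∈ L, β ^ r = algebraMap R Ω π ∧ L = K⟮β⟯ ∧ ∀ y ∈ L, y ≠ 0 → ∃ k : ℤ, v y = v β ^ k := by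
  haveI : IsGalois K Ω := inferInstance
  let p := v (algebraMap R Ω π)
  have hπ0 : algebraMap R Ω π ≠ 0 := by
    rw [IsScalarTower.algebraMap_apply R K Ω]
    simpa using hπ.ne_zero
  have hp0 : p ≠ 0 := (Valuation.ne_zero_iff _).2 hπ0
  have hp1 : p < 1 := algebraMap_lt_one hW (hπ.not_isUnit)
  have hpinj : Function.Injective fun n : ℤ => p ^ n :=
    (zpow_right_strictAnti₀ (zero_lt_iff.2 hp0) hp1).injective
  -- the possible values
  let S : AddSubgroup ℤ :=
    { carrier := {n | ∃ y ∈ L, y ≠ 0 ∧ v y ^ r = p ^ n}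
      zero_mem' := ⟨1, one_mem L, one_ne_zero, by simp⟩
      add_mem' := by
        rintro m n ⟨y, hy, hy0, hym⟩ ⟨z, hz, hz0, hzn⟩
        exact ⟨y * z, mul_mem hy hz, mul_ne_zero hy0 hz0, by rw [map_mul, mul_pow, hym, hzn, zpow_add₀ hp0]⟩
      neg_mem' := by
        rintro m ⟨y, hy, hy0, hym⟩
        exact ⟨y⁻¹, inv_mem hy, inv_ne_zero hy0, by rw [map_inv₀, inv_pow, hym, zpow_neg]⟩ }
  have hS : ∀ y ∈ L, y ≠ 0 → ∃ n ∈ S, v y ^ r = p ^ n := by
    intro y hy hy0
    have hN := Algebra.norm_eq_prod_automorphisms K (⟨y, hy⟩ : L)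
    have hN' := congrArg (fun t : L => v (t : Ω)) hN
    simp only [IntermediateField.coe_prod, map_prod] at hN'
    have hterm : ∀ τ : L ≃ₐ[K] L, v ((τ ⟨y, hy⟩ : L) : Ω) = v y := fun τ => by
      have h := AlgEquiv.liftNormal_commutes τ Ω ⟨y, hy⟩
      rw [show ((τ ⟨y, hy⟩ : L) : Ω) = τ.liftNormal Ω y from h.symm]
      exact val_apply hI _ y
    rw [Finset.prod_congr rfl fun τ _ => hterm τ, Finset.prod_const, Finset.card_univ, ← Nat.card_eq_fintype_card,
      IsGalois.card_aut_eq_finrank, hL] at hN'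
    have hN0 : Algebra.norm K (⟨y, hy⟩ : L) ≠ 0 := Algebra.norm_ne_zero_iff.2 fun h => hy0 (congrArg Subtype.val h)
    obtain ⟨n, hn⟩ := exists_zpow (W := W) hW hπ hN0
    have h : v y ^ r = p ^ n := hN'.symm.trans hn
    exact ⟨n, ⟨y, hy, hy0, h⟩, h⟩
  obtain ⟨a, ha⟩ := Int.subgroup_cyclic S
  have hrS : (r : ℤ) ∈ S := ⟨algebraMap R Ω π, by
    rw [IsScalarTower.algebraMap_apply R K Ω]; exact L.algebraMap_mem _, hπ0, by rw [zpow_natCast]⟩
  have hdvd : ∀ n, n ∈ S ↔ a ∣ n := fun n => by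
    rw [ha, AddSubgroup.mem_closure_singleton]
    simp only [smul_eq_mul, Dvd.dvd, mul_comm a, eq_comm]
  let d := a.natAbs
  obtain ⟨e, he⟩ : d ∣ r := Int.natAbs_dvd_natAbs.2 ((hdvd _).1 hrS)
  have hd0 : d ≠ 0 := fun h => hr.ne' (by rw [he, h, zero_mul])
  have he0 : e ≠ 0 := fun h => hr.ne' (by rw [he, h, mul_zero])
  obtain ⟨y₀, hy₀, hy₀0, hy₀d⟩ := (hdvd d).2 Int.dvd_natAbs_self
  rw [zpow_natCast] at hy₀d
  have hye : v (y₀ ^ e) = p := by
    refine (pow_left_inj₀ zero_le zero_le hr.ne').1 ?_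
    rw [map_pow, ← pow_mul, mul_comm e r, pow_mul, hy₀d, ← pow_mul, ← he]
  have hπL : algebraMap R Ω π ∈ L := by
    rw [IsScalarTower.algebraMap_apply R K Ω]; exact L.algebraMap_mem _
  obtain ⟨x, hx, hxr⟩ := exists_root hW hI hr hrk L (div_mem hπL (pow_mem hy₀ e))
    (by rw [map_div₀, hye, div_self hp0])
  let β := x ^ d * y₀
  have hβL : β ∈ L := mul_mem (pow_mem hx d) hy₀
  have hβe : β ^ e = algebraMap R Ω π := by
    rw [mul_pow, ← pow_mul, ← he, hxr, div_mul_cancel₀ _ (pow_ne_zero _ hy₀0)]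
  have hval : ∀ y ∈ L, y ≠ 0 → ∃ k : ℤ, v y = v β ^ k := by
    intro y hy hy0
    obtain ⟨n, hn, hyn⟩ := hS y hy hy0
    obtain ⟨k, rfl⟩ : (d : ℤ) ∣ n := Int.natAbs_dvd.2 ((hdvd n).1 hn)
    refine ⟨k, (pow_left_inj₀ zero_le zero_le hr.ne').1 ?_⟩
    have hp : p = v β ^ e := by rw [← map_pow, hβe]
    rw [hyn, hp, ← zpow_natCast (v β) e, ← zpow_mul, ← zpow_natCast (v β ^ k) r, ← zpow_mul, he]
    push_cast
    ring_nf
  have hLβ : L = K⟮β⟯ := by
    refine le_antisymm (fun z hz => ?_) (adjoin_simple_le_iff.2 hβL)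
    rw [← InfiniteGalois.fixedField_fixingSubgroup K⟮β⟯]
    refine fun σ => fixes_of_values hW hI hr hrk L hL σ.1 (fun y hy hy0 => ?_) hz
    obtain ⟨k, hk⟩ := hval y hy hy0
    refine ⟨β ^ k, ?_, by rw [map_zpow₀, hk]⟩
    rw [map_zpow₀, show σ.1 β = β from σ.2 ⟨β, mem_adjoin_simple_self K β⟩]
  have hde : r ≤ e := by
    have hint : IsIntegral K β := Algebra.IsIntegral.isIntegral β
    have h1 : r = (minpoly K β).natDegree := by rw [← adjoin.finrank hint, ← hL, hLβ]
    rw [h1]
    refine (natDegree_le_of_dvd (minpoly.dvd K β (p := X ^ e - C (algebraMap R K π)) ?_)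
      (X_pow_sub_C_ne_zero (Nat.pos_of_ne_zero he0) _)).trans (natDegree_X_pow_sub_C).le
    simp [hβe, ← IsScalarTower.algebraMap_apply]
  have : e = r := le_antisymm (Nat.le_of_dvd hr ⟨d, by rw [he, mul_comm]⟩) hde
  exact ⟨β, hβL, this ▸ hβe, hLβ, hval⟩

include hW hI hr hrk in
/-- The radical extension is the unique Galois extension of degree `r`. -/
theorem existsUnique_galois :
    ∃! L : IntermediateField K Ω, Module.finrank K L = r ∧ IsGalois K L := by
  haveI : IsSepClosed Ω := IsSepClosure.sep_closed K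
  haveI : IsGalois K Ω := inferInstance
  haveI : NeZero (r : Ω) := ⟨fun h => by
    have := natCast_eq_one (Ω := Ω) (W := W) hW hrk dvd_rfl
    rw [h, map_zero] at this
    exact zero_ne_one this⟩
  obtain ⟨π, hπ⟩ := IsDiscreteValuationRing.exists_irreducible R
  obtain ⟨α, hα⟩ := IsSepClosed.exists_pow_nat_eq (algebraMap R Ω π) r
  have hπ0 : algebraMap R Ω π ≠ 0 := by
    rw [IsScalarTower.algebraMap_apply R K Ω]
    simpa using hπ.ne_zero
  have hmem : ∀ β β' : Ω, β ^ r = algebraMap R Ω π → β' ^ r = algebraMap R Ω π → β' ∈ K⟮β⟯ := by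
    intro β β' h h'
    have hβ0 : β ≠ 0 := fun h0 => hπ0 (by rw [← h, h0, zero_pow hr.ne'])
    have hz : (β' / β) ^ r = 1 := by rw [div_pow, h, h', div_self hπ0]
    rw [← div_mul_cancel₀ β' hβ0]
    refine mul_mem ?_ (mem_adjoin_simple_self K β)
    rw [← InfiniteGalois.fixedField_fixingSubgroup K⟮β⟯]
    exact fun σ => root_fixed hW hI hr hrk (map_one _) hz σ.1 (map_one _)
  have hmap : ∀ σ : Ω →ₐ[K] Ω, (σ α) ^ r = algebraMap R Ω π := fun σ => by
    rw [← map_pow, hα, IsScalarTower.algebraMap_apply R K Ω, AlgHom.commutes]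
  have hint : IsIntegral K α := Algebra.IsIntegral.isIntegral α
  have hdeg : Module.finrank K K⟮α⟯ = r := by
    have hm : (X ^ r - C π : R[X]).Monic := monic_X_pow_sub_C π hr.ne'
    have hirr : Irreducible (X ^ r - C π : R[X]) := by
      have hprime : (Ideal.span {π}).IsPrime := (Ideal.span_singleton_prime hπ.ne_zero).2 hπ.prime
      refine IsEisensteinAt.irreducible (𝓟 := Ideal.span {π}) ?_ hprime hm.isPrimitive ?_
      · refine ⟨?_, fun {n} hn => ?_, ?_⟩
        · rw [hm.leadingCoeff]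
          exact fun h => hprime.ne_top ((Ideal.eq_top_iff_one _).2 h)
        · rw [natDegree_X_pow_sub_C] at hn
          rw [coeff_sub, coeff_X_pow, if_neg hn.ne, coeff_C]
          split_ifs <;> simp [Ideal.mem_span_singleton_self]
        · rw [coeff_sub, coeff_X_pow, if_neg hr.ne, coeff_C, if_pos rfl, zero_sub, Ideal.neg_mem_iff,
            Ideal.span_singleton_pow, Ideal.mem_span_singleton]
          rintro ⟨c, hc⟩
          exact hπ.not_isUnit (IsUnit.of_mul_eq_one c (mul_left_cancel₀ hπ.ne_zero (by rw [← mul_assoc, ← sq, ← hc, mul_one])))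
      · rw [natDegree_X_pow_sub_C]; exact hr
    have hirr' := (hm.irreducible_iff_irreducible_map_fraction_map (K := K)).1 hirr
    have hroot : aeval α ((X ^ r - C π : R[X]).map (algebraMap R K)) = 0 := by
      simp [hα, ← IsScalarTower.algebraMap_apply]
    rw [adjoin.finrank hint, ← minpoly.eq_of_irreducible_of_monic hirr' hroot (hm.map _),
      hm.natDegree_map, natDegree_X_pow_sub_C]
  haveI : Normal K K⟮α⟯ := by
    rw [normal_iff_forall_map_le]
    intro σ
    rw [adjoin_map, Set.image_singleton, adjoin_simple_le_iff]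
    exact hmem α _ hα (hmap σ)
  refine ⟨K⟮α⟯, ⟨hdeg, ⟨⟩⟩, ?_⟩
  rintro L ⟨hL, hgal⟩
  haveI := hgal
  haveI : FiniteDimensional K L := FiniteDimensional.of_finrank_pos (by rw [hL]; exact hr)
  obtain ⟨β, -, hβ, rfl, -⟩ := exists_beta hW hI hr hrk L hL hπ
  exact le_antisymm (adjoin_simple_le_iff.2 (hmem α β hα hβ)) (adjoin_simple_le_iff.2 (hmem β α hβ hα))

include hW in
/-- Elements of `K` of value at most one are integral. -/
theorem exists_of_le_one {c : K} (hc : v (algebraMap K Ω c) ≤ 1) : ∃ a : R, algebraMap R K a = c := by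
  rcases ValuationRing.isInteger_or_isInteger R c with ⟨a, ha⟩ | ⟨a, ha⟩
  · exact ⟨a, ha⟩
  · rcases eq_or_ne c 0 with rfl | hc0
    · exact ⟨0, map_zero _⟩
    by_cases hu : IsUnit a
    · obtain ⟨a, rfl⟩ := hu
      exact ⟨↑a⁻¹, by rw [map_units_inv, ha, inv_inv]⟩
    · exfalso
      have h := algebraMap_lt_one (Ω := Ω) hW (a := a) hu
      rw [IsScalarTower.algebraMap_apply R K Ω, ha, map_inv₀, map_inv₀,
        inv_lt_one₀ (zero_lt_iff.2 ((Valuation.ne_zero_iff _).2 (by simpa using hc0)))] at h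
      exact absurd hc (not_le.2 h)

include hW hI in
/-- Elements of value at most one are integral. -/
theorem isIntegral_of_le_one {y : Ω} (hy : v y ≤ 1) : IsIntegral R y := by
  haveI : IsGalois K Ω := inferInstance
  have hint : IsIntegral K y := Algebra.IsIntegral.isIntegral y
  let q := (minpoly K y).map (algebraMap K Ω)
  have hsplit : q.Splits := Normal.splits inferInstance y
  have hq : q ∈ Polynomial.lifts W.subtype := by
    rw [hsplit.eq_prod_roots_of_monic ((minpoly.monic hint).map _)]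
    refine multiset_prod_mem _ fun g hg => ?_
    obtain ⟨z, hz, rfl⟩ := Multiset.mem_map.1 hg
    have hz0 : aeval z (minpoly K y) = 0 := by
      have h := (mem_roots'.1 hz).2
      rwa [IsRoot.def, eval_map_algebraMap] at h
    obtain ⟨σ, hσ⟩ := (minpoly.exists_algEquiv_of_root' hint.isAlgebraic hz0)
    have hzW : z ∈ W := by
      rw [← W.valuation_le_one_iff, ← hσ]
      exact apply_le_one hI hy σ
    exact (lifts_iff_liftsRing _ _).2 (sub_mem ((lifts_iff_liftsRing _ _).1 (X_mem_lifts _)) ((lifts_iff_liftsRing _ _).1 (C_mem_lifts W.subtype (⟨z, hzW⟩ : W))))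
  have hlift : minpoly K y ∈ Polynomial.lifts (algebraMap R K) := by
    refine (lifts_iff_coeff_lifts _).2 fun n => ?_
    obtain ⟨w, hw⟩ := (lifts_iff_coeff_lifts _).1 hq n
    rw [coeff_map] at hw
    exact exists_of_le_one (W := W) hW (by rw [← hw]; exact (W.valuation_le_one_iff _).2 w.2)
  obtain ⟨g, hg, -, hgm⟩ := lifts_and_natDegree_eq_and_monic hlift (minpoly.monic hint)
  refine ⟨g, hgm, ?_⟩
  rw [← aeval_def, ← aeval_map_algebraMap K y, hg, minpoly.aeval]

include hW hI hr hrk in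
/-- Total ramification. -/
theorem ramificationIdx_eq (L : IntermediateField K Ω) [IsGalois K L] [FiniteDimensional K L]
    (hL : Module.finrank K L = r) (P : Ideal ↥(integralClosure R L)) (hP : P.IsMaximal) :
    P.ramificationIdx R = r := by
  obtain ⟨π, hπ⟩ := IsDiscreteValuationRing.exists_irreducible R
  obtain ⟨β, hβL, hβ, -, hval⟩ := exists_beta hW hI hr hrk L hL hπ
  let O := integralClosure R L
  haveI : IsScalarTower R L Ω := IsScalarTower.of_algebraMap_eq fun t => by rw [IsScalarTower.algebraMap_apply R K Ω, IsScalarTower.algebraMap_apply R K L]; rfl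
  haveI : IsDedekindDomain O := IsIntegralClosure.isDedekindDomain R K L O
  have hintO : ∀ y : L, v (y : Ω) ≤ 1 → IsIntegral R y := fun y hy =>
    (isIntegral_algHom_iff (IsScalarTower.toAlgHom R L Ω) Subtype.val_injective).1 (isIntegral_of_le_one hW hI hy)
  have hleO : ∀ y : O, v ((y : L) : Ω) ≤ 1 := fun y => by
    have h : IsIntegral R ((y : L) : Ω) := y.2.map (IsScalarTower.toAlgHom R L Ω)
    obtain ⟨g, hg, hgy⟩ := h
    by_contra hgt
    rw [not_le] at hgt
    rw [eval₂_eq_sum_range, Finset.sum_range_succ, hg.coeff_natDegree, map_one, one_mul, add_eq_zero_iff_neg_eq] at hgy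
    have hlt : v (∑ x ∈ Finset.range g.natDegree, algebraMap R Ω (g.coeff x) * ((y : L) : Ω) ^ x) <
        v (((y : L) : Ω) ^ g.natDegree) := by
      refine Valuation.map_sum_lt _ ((Valuation.ne_zero_iff _).2 (pow_ne_zero _ fun h0 => by simp [h0] at hgt)) fun i hi => ?_
      rw [map_mul, map_pow, map_pow]
      exact (mul_le_of_le_one_left' (algebraMap_le_one hW _)).trans_lt (pow_lt_pow_right₀ hgt (Finset.mem_range.1 hi))
    rw [← hgy, Valuation.map_neg] at hlt
    exact lt_irrefl _ hlt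
  have hβ1 : v β < 1 := by
    rw [← pow_lt_one_iff_of_nonneg zero_le hr.ne', ← map_pow, hβ]
    exact algebraMap_lt_one hW hπ.not_isUnit
  have hβ0 : v β ≠ 0 := fun h => by
    rw [Valuation.zero_iff] at h
    rw [h, zero_pow hr.ne', IsScalarTower.algebraMap_apply R K Ω] at hβ
    exact hπ.ne_zero (IsFractionRing.injective R K (by simpa using hβ.symm))
  let b : O := ⟨⟨β, hβL⟩, hintO ⟨β, hβL⟩ hβ1.le⟩
  have hb : b ^ r = algebraMap R O π := Subtype.ext (Subtype.ext hβ)
  have hmax : P.comap (algebraMap R O) = IsLocalRing.maximalIdeal R :=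
    IsLocalRing.eq_maximalIdeal (Ideal.isMaximal_comap_of_isIntegral_of_isMaximal P)
  have hbP : b ∈ P := by
    refine hP.isPrime.mem_of_pow_mem r ?_
    rw [hb, ← Ideal.mem_comap, hmax]
    exact hπ.not_isUnit
  -- a representative in `R` of each class
  have hrep : ∀ y : O, ∃ (c : R) (z : O), y = algebraMap R O c + b * z := by
    intro y
    obtain ⟨t, ht⟩ : ∃ t : R, algebraMap R K t = Algebra.trace K L (y : L) :=
      IsIntegrallyClosed.isIntegral_iff.1 (Algebra.isIntegral_trace y.2)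
    obtain ⟨s, hs⟩ : IsUnit ((r : R)) := by
      rw [← IsLocalRing.residue_ne_zero_iff_isUnit, map_natCast]; exact hrk
    let c : R := ↑s⁻¹ * t
    have hlt : v (((y : L) : Ω) - algebraMap R Ω c) < 1 := by
      have htr := congrArg (fun z : L => (z : Ω)) (trace_eq_sum_automorphisms (K := K) (y : L))
      simp only [IntermediateField.coe_sum] at htr
      have hsum : v (∑ τ : L ≃ₐ[K] L, (((τ (y : L) : L) : Ω) - ((y : L) : Ω))) < 1 :=
        Valuation.map_sum_lt _ one_ne_zero fun τ _ => by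
          have h := AlgEquiv.liftNormal_commutes τ Ω (y : L)
          rw [show ((τ (y : L) : L) : Ω) = τ.liftNormal Ω ((y : L) : Ω) from h.symm]
          exact sub_lt_one hI (hleO y) (τ.liftNormal Ω)
      rw [Finset.sum_sub_distrib, ← htr, Finset.sum_const, Finset.card_univ, ← Nat.card_eq_fintype_card,
        IsGalois.card_aut_eq_finrank, hL, nsmul_eq_mul] at hsum
      have h1 : algebraMap R Ω t = (r : Ω) * algebraMap R Ω c := by
        rw [← map_natCast (algebraMap R Ω), ← map_mul, ← hs, ← mul_assoc, Units.mul_inv, one_mul]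
      have h2 : ((algebraMap K L (Algebra.trace K L (y : L)) : L) : Ω) = algebraMap R Ω t := by
        rw [← ht, IsScalarTower.algebraMap_apply R K Ω]
        rfl
      rw [h2, h1, ← mul_sub, map_mul, natCast_eq_one hW hrk dvd_rfl, one_mul, ← Valuation.map_neg, neg_sub] at hsum
      exact hsum
    let d : L := (y : L) - algebraMap R L c
    have hd : v (d : Ω) < 1 := hlt
    have hdiv : v ((d / ⟨β, hβL⟩ : L) : Ω) ≤ 1 := by
      show v ((d : Ω) / β) ≤ 1
      rw [map_div₀, div_le_one₀ (zero_lt_iff.2 hβ0)]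
      rcases eq_or_ne (d : Ω) 0 with h0 | h0
      · rw [h0, map_zero]; exact zero_le
      · obtain ⟨k, hk⟩ := hval _ d.2 h0
        rw [hk] at hd ⊢
        have hk1 : (1 : ℤ) ≤ k := by
          by_contra hk1
          have hk0 : k ≤ 0 := by omega
          exact absurd ((zpow_right_strictAnti₀ (zero_lt_iff.2 hβ0) hβ1).antitone hk0) (by rw [zpow_zero]; exact not_le.2 hd)
        calc v β ^ k ≤ v β ^ (1 : ℤ) := (zpow_right_strictAnti₀ (zero_lt_iff.2 hβ0) hβ1).antitone hk1
          _ = v β := zpow_one _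
    refine ⟨c, ⟨d / ⟨β, hβL⟩, hintO _ hdiv⟩, Subtype.ext ?_⟩
    show (y : L) = algebraMap R L c + ⟨β, hβL⟩ * (d / ⟨β, hβL⟩)
    rw [mul_div_cancel₀ _ (fun h => hβ0 (by rw [show β = 0 from congrArg Subtype.val h, map_zero]))]
    simp [d]
  have hPb : P = Ideal.span {b} := by
    refine le_antisymm (fun y hy => ?_) ((Ideal.span_singleton_le_iff_mem P).2 hbP)
    obtain ⟨c, z, rfl⟩ := hrep y
    have hc : c ∈ IsLocalRing.maximalIdeal R := by
      rw [← hmax, Ideal.mem_comap]
      exact (Ideal.add_mem_iff_left P (P.mul_mem_right z hbP)).1 hy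
    rw [hπ.maximalIdeal_eq, Ideal.mem_span_singleton] at hc
    obtain ⟨c', rfl⟩ := hc
    rw [Ideal.mem_span_singleton, map_mul, ← hb]
    exact dvd_add ((dvd_pow_self b hr.ne').mul_right _) (dvd_mul_right b z)
  haveI : P.LiesOver (IsLocalRing.maximalIdeal R) := ⟨hmax.symm⟩
  haveI := hP.isPrime
  have hb0 : b ≠ 0 := fun h => hβ0 (by rw [show β = 0 from congrArg (fun t : O => ((t : L) : Ω)) h, map_zero])
  have hmap : (IsLocalRing.maximalIdeal R).map (algebraMap R O) = P ^ r := by
    rw [hπ.maximalIdeal_eq, Ideal.map_span, Set.image_singleton, ← hb, hPb, Ideal.span_singleton_pow]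
  rw [← Ideal.ramificationIdx'_eq_ramificationIdx' (IsLocalRing.maximalIdeal R) P
    (by rw [hmap]; exact pow_ne_zero _ (by rw [hPb]; simpa using hb0))]
  refine Ideal.ramificationIdx'_spec hmap.le ?_
  rw [hmap, hPb, Ideal.span_singleton_pow, Ideal.span_singleton_pow, Ideal.span_singleton_le_span_singleton,
    pow_dvd_pow_iff hb0 (fun hu => hP.ne_top (Ideal.eq_top_of_isUnit_mem _ hbP hu))]
  omega

end Groth.Agent.SGA7Tame
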