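import Groth.Agent.Deform.Luna.TorusImage
import Groth.Agent.Deform.Luna.TorusImageBase
import Groth.Agent.Deform.Borel.Tori
import Groth.Agent.Deform.PowTorus
import Groth.Agent.EtFound.Descent
import Groth.Prelude.Def_AlgGrp

/-!
# Tori in commutative groups over a field lie in a maximal torus
-/

set_option autoImplicit false
set_option linter.style.haveILetI false
set_option backward.isDefEq.respectTransparency.types false

universe u

open CategoryTheory CategoryTheory.Limits MonoidalCategory CartesianMonoidalCategory MonObj GrpObj AlgebraicGeometry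

attribute [local instance] CategoryTheory.Hom.monoid CategoryTheory.Hom.group

namespace Groth.Agent.SGA7Tame

variable {k : Type u} [Field k]

set_option maxHeartbeats 1000000 in
/-- Over an algebraically closed field a maximal torus of a commutative group absorbs every torus. -/
theorem factor_closed [IsAlgClosed k] {G T X : Over (Spec (CommRingCat.of k))} [GrpObj G] [GrpObj T] [GrpObj X]
    [IsCommMonObj G] [LocallyOfFiniteType G.hom] [QuasiCompact G.hom]
    (i : T ⟶ G) [IsMonHom i] (hT : Red.IsTorus T) (hX : Red.IsTorus X) (f : X ⟶ G) [IsMonHom f]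
    (hmax : ∀ (T' : Over (Spec (CommRingCat.of k))) [GrpObj T'] (j : T' ⟶ G) [IsMonHom j] [Mono j] (d : T ⟶ T'),
      Red.IsTorus T' → d ≫ j = i → IsIso d) :
    ∃ w : X ⟶ T, w ≫ i = f := by
  let m : T ⊗ X ⟶ G := (i ⊗ₘ f) ≫ μ[G]
  haveI : IsMonHom m := inferInstanceAs (IsMonHom ((i ⊗ₘ f) ≫ μ[G]))
  obtain ⟨Q, iQ, p, j, hp, hj, hjc, -, hpj, hQ⟩ :=
    Deform.Luna.exists_image_torus (Deform.Luna.isTorus_prod hT hX) m
  haveI := hp; haveI := hj; haveI := hjc
  haveI : Mono j := (Over.forget _).mono_of_mono_map (inferInstanceAs (Mono j.left))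
  have h1 : ∀ {Z : Over (Spec (CommRingCat.of k))} (a : Z ⟶ T) (b : Z ⟶ X),
      lift a b ≫ m = (a ≫ i) * (b ≫ f) := fun a b => by
    rw [Hom.mul_def, ← Category.assoc]
    congr 1
    exact lift_map _ _ _ _
  have h2 : (lift (𝟙 T) 1 ≫ p) ≫ j = i := by
    rw [Category.assoc, hpj, h1, MonObj.one_comp, Category.id_comp, _root_.mul_one]
  haveI := hmax Q j _ hQ h2
  refine ⟨lift 1 (𝟙 X) ≫ p ≫ CategoryTheory.inv (lift (𝟙 T) 1 ≫ p), ?_⟩
  have h3 : CategoryTheory.inv (lift (𝟙 T) 1 ≫ p) ≫ i = j := by rw [IsIso.inv_comp_eq, h2]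
  rw [Category.assoc, Category.assoc, h3, hpj, h1, MonObj.one_comp, Category.id_comp, _root_.one_mul]

set_option maxHeartbeats 1000000 in
/-- A maximal torus of a commutative group over a field absorbs every torus. -/
theorem factor {G T X : Over (Spec (CommRingCat.of k))} [GrpObj G] [GrpObj T] [GrpObj X]
    [IsCommMonObj G] [LocallyOfFiniteType G.hom] [QuasiCompact G.hom] [IsSeparated G.hom]
    (i : T ⟶ G) (hi : Red.IsMaximalTorus i) (hX : Red.IsTorus X) (f : X ⟶ G) [IsMonHom f] :
    ∃ w : X ⟶ T, w ≫ i = f := by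
  obtain ⟨him, himo, hT, hmax⟩ := hi
  haveI := him; haveI := himo
  let s : ↥(Spec (CommRingCat.of k)) := IsLocalRing.closedPoint k
  let K := AlgebraicClosure ((Spec (CommRingCat.of k)).residueField s)
  let g : Spec (CommRingCat.of K) ⟶ Spec (CommRingCat.of k) := Red.geomPt s
  haveI : Flat g := by
    obtain ⟨φ, hφ⟩ := Spec.map_surjective g
    rw [← hφ, HasRingHomProperty.Spec_iff (P := @Flat)]
    letI := φ.hom.toAlgebra
    haveI : Module.Flat k K := Module.Flat.of_free
    exact this
  haveI : Surjective g := ⟨fun y => ⟨IsLocalRing.closedPoint K, Subsingleton.elim (α := PrimeSpectrum k) _ _⟩⟩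
  haveI : QuasiCompact g := inferInstance
  let F := Over.pullback g
  haveI : LocallyOfFiniteType (Red.bc g G).hom := inferInstanceAs (LocallyOfFiniteType (pullback.snd G.hom g))
  haveI : QuasiCompact (Red.bc g G).hom := inferInstanceAs (QuasiCompact (pullback.snd G.hom g))
  haveI : IsCommMonObj (Red.bc g G) := inferInstanceAs (IsCommMonObj ((Over.pullback g).obj G))
  have hTb := Deform.isTorus_bc g hT
  obtain ⟨hTa, hTl, -, -⟩ := Deform.TorusBasic.props hTb
  haveI := hTa; haveI := hTl
  haveI : IsAffineHom (Red.bc g T).hom := isAffineHom_of_isAffine _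
  haveI : Mono (F.map i) := inferInstanceAs (Mono ((Over.pullback g).map i))
  haveI : IsClosedImmersion (F.map i).left := Deform.Borel.isClosedImmersion_of_mono (F.map i)
  haveI : IsClosedImmersion i.left := by
    haveI : MorphismProperty.DescendsAlong (@IsClosedImmersion : MorphismProperty Scheme.{u})
        (@Surjective ⊓ @Flat ⊓ @QuasiCompact) := EtFound.fpqc_isClosedImmersion
    refine MorphismProperty.of_isPullback_of_descendsAlong (P := @IsClosedImmersion)
      (Q := @Surjective ⊓ @Flat ⊓ @QuasiCompact) (Deform.Extension.isPullback_map_left g i) ?_ ‹_›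
    exact ⟨⟨MorphismProperty.pullback_fst (P := @Surjective) _ _ inferInstance,
      MorphismProperty.pullback_fst (P := @Flat) _ _ inferInstance⟩,
      MorphismProperty.pullback_fst (P := @QuasiCompact) _ _ inferInstance⟩
  obtain ⟨w, hw⟩ := factor_closed (F.map i) hTb (Deform.isTorus_bc g hX) (F.map f)
    (fun T' _ j _ _ d hT' hd => hmax s T' j d hT' hd)
  haveI : Flat (pullback.fst X.hom g) := MorphismProperty.pullback_fst (P := @Flat) _ _ inferInstance
  haveI : Surjective (pullback.fst X.hom g) := MorphismProperty.pullback_fst (P := @Surjective) _ _ inferInstance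
  refine Deform.Luna.exists_lift_flat i f (fun _ : PUnit.{u + 1} => pullback X.hom g)
    (fun _ => pullback.fst X.hom g) (fun t => ⟨PUnit.unit, (pullback.fst X.hom g).surjective t⟩)
    fun _ => ⟨w.left ≫ pullback.fst T.hom g, ?_⟩
  have hmi : (F.map i).left ≫ pullback.fst G.hom g = pullback.fst T.hom g ≫ i.left := pullback.lift_fst _ _ _
  have hmf : (F.map f).left ≫ pullback.fst G.hom g = pullback.fst X.hom g ≫ f.left := pullback.lift_fst _ _ _
  rw [Category.assoc, ← hmi, ← Category.assoc, ← Over.comp_left, hw, hmf]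

end Groth.Agent.SGA7Tame
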